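import Cfsg.Agent.Lib.ToddCox.Glue
set_option autoImplicit false
set_option maxRecDepth 100000
namespace Cfsg.Agent.Lib.ToddCox.G24C2
def E_0 : ℕ := 0x230800008c00008c20000230000230400008c00008c10000230000230000008c00008c000002300002208000088000088200002200002204000088000088100002200002200000088000088000002200002104000084000084100002100002100000084000084000002100002004000080000080100002000002000000080000080000002000001f04000070000070100001f00001f0000007c00007c000001f00001e08000068000068200001e00001e04000078000078100001e00001e00000068000068000001e00001d04000060000060100001d00001d00000074000074000001d00001c08000070000070200001c00001c00000058000058000001c00001b0800006c00006c200001b00001b0000006c00006c000001b00001a04000050000050100001a0000190800005400005420000190000190400006400006410000190000180800006000006020000180000180000005000005000000180000170000005c00005c00000170000170800005c00005c20000170000160800005800005820000160000160400004400004410000160000140800005000005020000140000130800004000004020000130000120000003c00003c000001200001108000034000034200001100001100000034000034000001100000e04000038000038100000e00000e0000002c00002c000000e00000d04000034000034100000d00000c00000024000024000000c00000b04000020000020100000b00000a0800001c00001c200000a00000a04000028000028100000a0000090400002400002410000090000080000001800001800000080000060400001000001010000060000050800001400001420000050000040800001000001020000040000040000001000001000000040000030800000c00000c20000030000020000000800000800000020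000010400000400000410000010000010000000400000400000010000000800000000000020000000000000400000000000010000000000000000000000000000000000000210c00008c00008c30000210000200c000088000088300002000001f08000084000084200001f00001d08000080000080200001d00001b0c00007c00007c300001b0000190c00007800007830000190000170c00007400007430000170000150c00007000007030000150000150400006c00006c10000150000130c00006800006830000130000130000006400006400000130000120c00006000006030000120000120400005c00005c10000120000100c000058000058300001000001000000054000054000001000000f0c000050000050300000f00000f0400004c00004c100000f00000e08000048000048200000e00000c0c000044000044300000c00000c04000040000040100000c00000b0800003c00003c200000b00000a0c000038000038300000a0000090c00003400003430000090000080800003000003020000080000070c00002c00002c30000070000070000002800002800000070000060800002400002420000060000050c00002000002030000050000050400001c00001c10000050000030c00001800001830000030000030000001400001400000030000020c00001000001030000020000020400000c00000c10000020000010800000800000820000010000000c0000040000043000000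
end Cfsg.Agent.Lib.ToddCox.G24C2
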